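import Cfsg.Agent.H376.Six.Elim
import Cfsg.Agent.H72.AdjOrth
import Cfsg.Agent.H513.WandPSp
import Cfsg.Agent.H458.M2.Sp

/-!
# BLOCK 6, M2c: symplectic and orthogonal groups over `F_v`, `v` odd, and `E2 q` (helper458, task 2631): order 8

* `eight_dvd` : an element order divisible by 8 is 8;
* `psp` : `PSp_2n(v)`, `n ≥ 3`;
* `oodd4` : `Ω_(2n+1)(v)`, `n ≥ 4`; `oplus5`, `ominus5` : `PΩ^±_2n(v)`, `n ≥ 5`.
-/

set_option autoImplicit false
set_option linter.unusedSectionVars false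

namespace Cfsg.Agent.H458.Six

open Cfsg.Agent.H376.Six Cfsg.Agent.H377 Cfsg.Agent.H72.AdjOrth

theorem pow_even {q : ℕ} (h : ∃ m, 2 ≤ m ∧ q = 2 ^ m) : q % 4 = 0 ∧ 4 ≤ q := by
  obtain ⟨m, hm, rfl⟩ := h
  obtain ⟨k, rfl⟩ : ∃ k, m = k + 2 := ⟨m - 2, by omega⟩
  rw [pow_add]
  have : 0 < 2 ^ k := by positivity
  omega

theorem eight_dvd {q : ℕ} {S : Type*} [Group S] (h : E2 q S) (x : S) (h8 : 8 ∣ orderOf x) : orderOf x ∣ 8 := by
  obtain ⟨hq, hq4⟩ := pow_even h.pow
  have h2 : 2 ∣ q := by omega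
  have hodd : ∀ k, 0 < k → ¬ 2 ∣ q ^ k - 1 ∧ ¬ 2 ∣ q ^ k + 1 := by
    intro k hk
    have h3 : 2 ∣ q ^ k := dvd_pow h2 hk.ne'
    have h4 : 1 ≤ q ^ k := Nat.one_le_pow _ _ (by omega)
    omega
  have h28 : 2 ∣ orderOf x := dvd_trans (by norm_num) h8
  rcases h.ub x with h1 | h1 | h1 | h1 | h1 | h1 | h1 | h1
  · exact absurd (h28.trans h1) (hodd 3 (by norm_num)).1
  · exact absurd (h28.trans h1) (hodd 3 (by norm_num)).2
  · exact absurd (h28.trans h1) (hodd 4 (by norm_num)).1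
  · have h3 := h8.trans h1
    have h4 := (hodd 2 (by norm_num)).2
    omega
  · have h3 := h8.trans h1
    have h4 := (hodd 2 (by norm_num)).1
    omega
  · have h3 := h8.trans h1
    omega
  · have h3 := h8.trans h1
    omega
  · exact h1

section psp

open Matrix Equiv Cfsg.Agent.H636.SympWreath Cfsg.Agent.H513.WandPSp Cfsg.Agent.H458.M2Sp

variable {F : Type*} [Field F]

/-- the element of order four -/
def w4 (F : Type*) [Field F] : SpecialLinearGroup (Fin 2) F := ⟨!![0, 1; -1, 0], by simp [Matrix.det_fin_two]⟩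

theorem w4_sq : w4 F * w4 F = -1 := by
  apply Subtype.ext
  change !![0, 1; -1, 0] * !![0, 1; -1, 0] = (-1 : Matrix (Fin 2) (Fin 2) F)
  ext i j
  fin_cases i <;> fin_cases j <;> simp [Matrix.mul_apply, Fin.sum_univ_two]

theorem orderOf_w4 (h2 : (2 : F) ≠ 0) : orderOf (w4 F) = 4 := by
  have h1 : w4 F ^ 2 = -1 := by rw [pow_two, w4_sq]
  have h3 : (-1 : SpecialLinearGroup (Fin 2) F) ≠ 1 := by
    intro h
    have h4 := congrFun (congrFun (congrArg Subtype.val h) 0) 0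
    change (-(1 : Matrix (Fin 2) (Fin 2) F)) 0 0 = (1 : Matrix (Fin 2) (Fin 2) F) 0 0 at h4
    rw [Matrix.neg_apply, Matrix.one_apply_eq] at h4
    apply h2
    linear_combination -h4
  have h4 : Fact (Nat.Prime 2) := ⟨Nat.prime_two⟩
  have h5 := orderOf_eq_prime_pow (p := 2) (n := 1) (x := w4 F) (by rw [pow_one, h1]; exact h3)
    (by rw [show 2 ^ (1 + 1) = 2 * 2 by norm_num, pow_mul, h1, neg_one_sq])
  rw [h5]
  norm_num

theorem uu_pow (t : F) (k : ℕ) : uu t ^ k = uu (k * t) := by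
  induction k with
  | zero =>
    rw [pow_zero, Nat.cast_zero, zero_mul, uu_zero]
  | succ k ih =>
    rw [pow_succ, ih, uu_mul]
    congr 1
    push_cast
    ring

/-- **`PSp_2n(v)`** -/
theorem psp {q n : ℕ} {F : Type*} [Field F] [Fintype F] (ho : Odd (Fintype.card F)) (hn : 3 ≤ n)
    (h : E2 q (Cfsg.PSp n F)) : False := by
  classical
  have h2 : (2 : F) ≠ 0 := two_ne ho
  let i0 : Fin n := ⟨0, by omega⟩
  let i1 : Fin n := ⟨1, by omega⟩
  let i2 : Fin n := ⟨2, by omega⟩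
  have h01 : i0 ≠ i1 := by simp [i0, i1, Fin.ext_iff]
  have h02 : i0 ≠ i2 := by simp [i0, i2, Fin.ext_iff]
  have h12 : i1 ≠ i2 := by simp [i1, i2, Fin.ext_iff]
  let σ : Perm (Fin n) := Equiv.swap i0 i1
  let A : Fin n → SpecialLinearGroup (Fin 2) F := fun j => if j = i0 then w4 F else if j = i2 then uu 1 else 1
  let x : Matrix.symplecticGroup (Fin n) F := blk σ A
  have hA0 : A i0 = w4 F := if_pos rfl
  have hA1 : A i1 = 1 := by
    change (if i1 = i0 then w4 F else if i1 = i2 then uu 1 else 1) = 1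
    rw [if_neg h01.symm, if_neg h12]
  have hA2 : A i2 = uu 1 := by
    change (if i2 = i0 then w4 F else if i2 = i2 then uu 1 else 1) = uu 1
    rw [if_neg h02.symm, if_pos rfl]
  have hσ0 : σ i0 = i1 := Equiv.swap_apply_left _ _
  have hσ2 : σ i2 = i2 := Equiv.swap_apply_of_ne_of_ne h02.symm h12.symm
  have hσσ : σ * σ = 1 := Equiv.swap_mul_self _ _
  have hx2 : x ^ 2 = blk 1 (fun j => A (σ j) * A j) := by
    rw [pow_two]
    change blk σ A * blk σ A = _
    rw [blk_mul, hσσ]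
  -- central powers
  have key : ∀ M : ℕ, x ^ M ∈ Subgroup.center (Matrix.symplecticGroup (Fin n) F) → 8 ∣ M ∧ ((M : ℕ) : F) = 0 := by
    intro M hM
    obtain ⟨b, hb'⟩ : ∃ b : F, ∀ v, lm (x ^ M) v = b • v := by
      rcases Cfsg.Agent.ClassicalGeometry.SympInvolutions.center_eq hM with h3 | h3
      · refine ⟨1, fun v => ?_⟩
        rw [lm_apply, h3, Matrix.one_mulVec, one_smul]
      · refine ⟨-1, fun v => ?_⟩
        rw [lm_apply, h3, Matrix.neg_mulVec, Matrix.one_mulVec, neg_smul, one_smul]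
    obtain ⟨k, hk | hk⟩ := Nat.even_or_odd' M
    · have hxM : x ^ M = blk 1 (fun j => (A (σ j) * A j) ^ k) := by
        rw [hk, pow_mul, hx2, blk_pow]
        rfl
      have h3 : ∀ (j : Fin n) (a : Fin 2 → F),
          (((A (σ j) * A j) ^ k : SpecialLinearGroup (Fin 2) F) : Matrix (Fin 2) (Fin 2) F) *ᵥ a = b • a := by
        intro j a
        have h4 := hb' (sb j a)
        rw [hxM, blk_sb] at h4
        have h5 := congrArg (cp j) h4
        rw [Perm.one_apply, cp_sb_self, ← map_smul, cp_sb_self] at h5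
        exact h5
      have h4 := h3 i2
      rw [hσ2, hA2, uu_mul, uu_pow] at h4
      have h5 : b = 1 := by
        have h6 := congrFun (h4 ![1, 0]) 0
        change (!![1, (k : F) * (1 + 1); 0, 1] *ᵥ ![1, 0]) 0 = _ at h6
        simp [Matrix.mulVec, dotProduct, Fin.sum_univ_two] at h6
        exact h6.symm
      have h6 : (k : F) * (1 + 1) = 0 := by
        have h7 := congrFun (h4 ![0, 1]) 0
        change (!![1, (k : F) * (1 + 1); 0, 1] *ᵥ ![0, 1]) 0 = _ at h7
        simpa [Matrix.mulVec, dotProduct, Fin.sum_univ_two] using h7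
      have h7 : w4 F ^ k = 1 := by
        apply Subtype.ext
        apply Matrix.toLin'.injective
        apply LinearMap.ext
        intro a
        rw [Matrix.toLin'_apply, Matrix.toLin'_apply]
        have h8 := h3 i0 a
        rw [hσ0, hA1, hA0, one_mul, h5, one_smul] at h8
        rw [h8]
        exact (Matrix.one_mulVec a).symm
      have h8 : 4 ∣ k := by
        rw [← orderOf_w4 h2]
        exact orderOf_dvd_of_pow_eq_one h7
      refine ⟨by omega, ?_⟩
      rw [hk]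
      push_cast
      linear_combination h6
    · exfalso
      have hxM : ∃ B, x ^ M = blk σ B := by
        obtain ⟨B, hB⟩ := blk_pow' σ A M
        refine ⟨B, ?_⟩
        change blk σ A ^ M = _
        rw [hB]
        congr 1
        rw [hk, pow_succ, pow_mul, pow_two, hσσ, one_pow, one_mul]
      obtain ⟨B, hB⟩ := hxM
      have h4 := hb' (sb i0 ![1, 0])
      rw [hB, blk_sb, hσ0] at h4
      have h5 := congrArg (cp i1) h4
      rw [cp_sb_self, ← map_smul, cp_sb_ne h01.symm] at h5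
      exact e1_ne (sl_inj _ h5)
  let y : Cfsg.PSp n F := QuotientGroup.mk' _ x
  have hy : x ^ orderOf y ∈ Subgroup.center (Matrix.symplecticGroup (Fin n) F) := by
    have h3 : y ^ orderOf y = 1 := pow_orderOf_eq_one y
    have h4 : QuotientGroup.mk' (Subgroup.center (Matrix.symplecticGroup (Fin n) F)) (x ^ orderOf y) = 1 := by
      rw [map_pow]
      exact h3
    exact (QuotientGroup.eq_one_iff _).1 h4
  obtain ⟨h3, h4⟩ := key _ hy
  have h5 := eight_dvd h y h3
  have h6 := Nat.dvd_antisymm h5 h3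
  rw [h6] at h4
  have h7 : (2 : F) * 2 * 2 = 0 := by
    have : ((8 : ℕ) : F) = 2 * 2 * 2 := by norm_num
    rw [← this, h4]
  rcases mul_eq_zero.1 h7 with h8 | h8
  · rcases mul_eq_zero.1 h8 with h9 | h9
    · exact h2 h9
    · exact h2 h9
  · exact h2 h8

end psp

section orth

variable {F : Type*} [Field F] [Fintype F]

theorem sixteen {v : ℕ} (hv : Odd v) (hv3 : 3 ≤ v) : 16 ∣ v ^ 4 - 1 ∧ 80 ≤ v ^ 4 - 1 := by
  constructor
  · obtain ⟨k, rfl⟩ := hv
    have h1 : (2 * k + 1) ^ 4 = 16 * (k ^ 4 + 2 * k ^ 3 + k ^ 2) + 8 * (k * (k + 1)) + 1 := by ring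
    obtain ⟨j, hj⟩ := (Nat.even_mul_succ_self k)
    rw [h1, hj]
    omega
  · have : 3 ^ 4 ≤ v ^ 4 := Nat.pow_le_pow_left hv3 4
    omega

theorem three_le (ho : Odd (Fintype.card F)) : 3 ≤ Fintype.card F := by
  have h1 : 1 < Fintype.card F := Fintype.one_lt_card
  obtain ⟨k, hk⟩ := ho
  omega

theorem kill {q : ℕ} {S : Type*} [Group S] (h : E2 q S) {N : ℕ} (hN : 16 ∣ N) (hN' : 80 ≤ N)
    (hx : ∃ x : S, orderOf x = N / 2) : False := by
  obtain ⟨x, hx⟩ := hx
  have h1 := eight_dvd h x (by rw [hx]; omega)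
  rw [hx] at h1
  have := Nat.le_of_dvd (by norm_num) h1
  omega

theorem two_ne' (ho : Odd (Fintype.card F)) : (2 : F) ≠ 0 := H513.WandPSp.two_ne ho

/-- **`Ω_(2n+1)(v)`, `n ≥ 4`** -/
theorem oodd4 {q n : ℕ} (ho : Odd (Fintype.card F)) (hn : 4 ≤ n)
    (h : E2 q (Cfsg.POmega F (Cfsg.quadFormOdd n F))) : False := by
  obtain ⟨h16, h80⟩ := sixteen ho (three_le ho)
  refine kill h h16 h80 ?_
  have h4 : Elt F 4 1 (Fintype.card F ^ 4 - 1) :=
    elt_tor_plus (by norm_num) (by rw [Nat.card_eq_fintype_card])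
  have h5 : Elt F n 1 (Fintype.card F ^ 4 - 1) := by
    rcases hn.eq_or_lt with rfl | hn
    · exact h4
    · exact elt_extend h4 (Or.inl rfl) (Or.inl rfl) hn
  refine exists_odd_of_elt (two_ne' ho) (by omega) h5 fun j => ?_
  obtain ⟨c, hc⟩ := h16
  rw [hc]
  have : 16 * c / 2 = 8 * c := by omega
  rw [this, show 16 * c = 2 * (8 * c) by ring]
  exact Nat.mul_dvd_mul_iff_left (by norm_num)

theorem elt2_five {n : ℕ} (ho : Odd (Fintype.card F)) (hn : 5 ≤ n) {ε : ℤ} (hε : ε = 1 ∨ ε = -1) :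
    Elt2 F n ε ((Fintype.card F ^ 4 - 1) / 2) := by
  have h4 : Elt F 4 1 (Fintype.card F ^ 4 - 1) :=
    elt_tor_plus (by norm_num) (by rw [Nat.card_eq_fintype_card])
  obtain ⟨h16, h80⟩ := sixteen ho (three_le ho)
  have h5 := Elt.add_two (F := F) (n₂ := n - 4) (by omega) hε h4 (by
    obtain ⟨c, hc⟩ := h16
    rw [hc]
    exact ⟨8 * c, by ring⟩)
  rwa [one_mul, show 4 + (n - 4) = n by omega] at h5

/-- **`PΩ⁺_2n(v)`, `n ≥ 5`** -/
theorem oplus5 {q n : ℕ} (ho : Odd (Fintype.card F)) (hn : 5 ≤ n)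
    (h : E2 q (Cfsg.POmega F (Cfsg.quadFormPlus n F))) : False := by
  obtain ⟨h16, h80⟩ := sixteen ho (three_le ho)
  exact kill h h16 h80 ((elt2_five ho hn (Or.inl rfl)).plus (by omega))

/-- **`PΩ⁻_2n(v)`, `n ≥ 5`** -/
theorem ominus5 {q n : ℕ} (ho : Odd (Fintype.card F)) (hn : 5 ≤ n) {a b : F}
    (hab : ∀ z₁ z₂ : F, z₁ ^ 2 + a * z₁ * z₂ + b * z₂ ^ 2 = 0 → z₁ = 0 ∧ z₂ = 0)
    (h : E2 q (Cfsg.POmega F (Cfsg.quadFormMinus (n - 1) F a b))) : False := by
  obtain ⟨h16, h80⟩ := sixteen ho (three_le ho)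
  exact kill h h16 h80 ((elt2_five ho hn (Or.inr rfl)).minus (by omega) hab)

end orth

end Cfsg.Agent.H458.Six
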